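import Groth.Prelude.Def_W4stkstmodspWNA
import Groth.Agent.AlgStLib.LocEss
import Groth.Agent.AlgStLib.LocQ
import Groth.Agent.AlgStLib.SepUnivClosed
import Groth.Agent.AlgStLib.QuasiCompact
import Groth.Agent.AlgStLib.DiagCover
import Groth.Agent.FibBase.DiagRep
import Groth.Agent.S10649

/-!
# Well-nigh affine stacks
-/

set_option backward.isDefEq.respectTransparency false
set_option backward.isDefEq.respectTransparency.types false

universe u

open CategoryTheory CategoryTheory.Functor CategoryTheory.Limits AlgebraicGeometry Opposite AlgSp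

namespace Groth.Agent.WellNighLib

open Groth.Agent.FibBase Groth.Agent.AlgSpLib Groth.Agent.AlgStLib

variable {S : Scheme.{u}} {𝒳 𝒴 : AlgSt.Cat S} {P Q : MorphismProperty (Sp S)}

/-- A property of `W ×_𝒳 W ⟶ W` descends to the diagonal of `𝒳`, given the cancellation along the projection. -/
theorem repByAlgSpWith_diag_toSelf_of_cover' (hPb : StableBC P) (hloc : IsLocalOnBase IsFppfCover P)
    (hc : Cancels P Q) {𝒲 : AlgSt.Cat S}
    (hW : AlgSt.RepByAlgSpWith Q (FibCat.fpFst (FibCat.toSelf 𝒲) (FibCat.toSelf 𝒲)))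
    (hΔ : AlgSt.RepByAlgSp1 (FibCat.diag (FibCat.toSelf 𝒳))) {p : 𝒲 ⥤ᵇ 𝒳}
    (hp : AlgSt.RepByAlgSpWith P p) (hes : LocEssSurj p) :
    AlgSt.RepByAlgSpWith P (FibCat.diag (FibCat.toSelf 𝒳)) := by
  let t := FibCat.toSelf 𝒳
  have hfst : AlgSt.RepByAlgSpWith Q (FibCat.fpFst (BasedFunctor.comp p t) (BasedFunctor.comp p t)) := by
    rw [eq_toSelf (BasedFunctor.comp p t)]
    exact hW
  have hweak : AlgSt.RepByAlgSpWith P (weaken p p t) :=
    repByAlgSpWith_of_comp hPb hc hfst (repByAlgSpWith_fpFst p hp)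
  exact repByAlgSpWith_of_locEssSurj hPb hloc hΔ (locEssSurj_pairMap t hes hes)
    ((repByAlgSpWith_iff_of_square (f' := weaken p p t) (f := FibCat.fpFst (pairMap p p t) (FibCat.diag t))
      (a := diagComparison p p t) (b := BasedFunctor.id _) (diagComparison_isEquivOver p p t) isEquivOver_id
      (Iso.refl _)).2 hweak)

theorem repByAlgSpWith_separated_fpFst_toSelf (U : Over S) [IsAffine U.left] :
    AlgSt.RepByAlgSpWith IsSeparatedMor
      (FibCat.fpFst (FibCat.toSelf (FibCat.overCat U : AlgSt.Cat S)) (FibCat.toSelf (FibCat.overCat U : AlgSt.Cat S))) := by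
  refine (repByAlgSpWith_iff_of_square (f := FibCat.fpFst (FibCat.toSelf (FibCat.overCat U : AlgSt.Cat S))
      (FibCat.toSelf (FibCat.overCat U : AlgSt.Cat S))) (f' := AlgSt.overMap (prod.fst : U ⨯ U ⟶ U))
      (a := sliceProd U U) (b := BasedFunctor.id _) (sliceProd_isEquivOver U U) isEquivOver_id (Iso.refl _)).2
    (repByAlgSpWith_overMap stableBC_isSeparatedMor ?_)
  refine (repWith_diagonal_yon_map_iff _ _).2 ?_
  have : IsSeparated U.hom := by
    have : IsSeparated (U.hom ≫ terminal.from S) := by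
      rw [Subsingleton.elim (U.hom ≫ terminal.from S) (terminal.from U.left)]
      infer_instance
    exact IsSeparated.of_comp U.hom (terminal.from S)
  have : IsSeparated (prod.fst : U ⨯ U ⟶ U).left := by
    rw [← CategoryTheory.Over.prodLeftIsoPullback_hom_fst U U]
    infer_instance
  exact inferInstanceAs (IsClosedImmersion (pullback.diagonal (prod.fst : U ⨯ U ⟶ U).left))

theorem isProperMor_and_lqf_of_isFiniteMor {F G : Sp S} (hF : IsAlgSpace F) (hG : IsAlgSpace G) (a : F ⟶ G)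
    (h : IsFiniteMor a) : IsProperMor a ∧ LocP (@LocallyQuasiFinite ⊓ @LocallyOfFiniteType) a :=
  let f : (⟨F, hF⟩ : Space S) ⟶ ⟨G, hG⟩ := ObjectProperty.homMk a
  ((S10649.result f).out 0 1).1 h

theorem isQuasiCompact_isQuasiDMOver_isSeparatedOver (h𝒳 : AlgSt.IsAlgStack Scheme.fppfPrecoverage 𝒳)
    (hw : AlgSt.IsWellNighAffine 𝒳) :
    AlgSt.IsQuasiCompact 𝒳 ∧ AlgSt.IsQuasiDMOver 𝒳 ∧ AlgSt.IsSeparatedOver 𝒳 := by
  obtain ⟨U, x, hU, hx⟩ := hw
  have hs : AlgSt.RepByAlgSpWith IsSurjectiveMor x := repByAlgSpWith_mono (fun _ _ _ h => h.1.1.1) hx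
  have hfl : AlgSt.RepByAlgSpWith (LocP @Flat) x := repByAlgSpWith_mono (fun _ _ _ h => h.1.1.2) hx
  have hlp : AlgSt.RepByAlgSpWith (LocP @LocallyOfFinitePresentation) x := repByAlgSpWith_mono (fun _ _ _ h => h.2) hx
  have hfin : AlgSt.RepByAlgSpWith IsFiniteMor x := repByAlgSpWith_mono (fun _ _ _ h => h.1.2) hx
  have hes : LocEssSurj x := locEssSurj_of_repByAlgSp hfl hlp hs
  have hpr : AlgSt.RepByAlgSpWith IsProperMor x :=
    repByAlgSpWith_mono_space (fun hF hG a h => (isProperMor_and_lqf_of_isFiniteMor hF hG a h).1) hfin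
  have hlq : AlgSt.RepByAlgSpWith (lqf (S := S)) x :=
    repByAlgSpWith_mono_space (fun hF hG a h => (isProperMor_and_lqf_of_isFiniteMor hF hG a h).2) hfin
  refine ⟨?_, ?_, ?_⟩
  · have hsx : AlgSt.IsSurjective x :=
      isSurjective_of_repByAlgSpWith (isFibGrpd_overCat U) h𝒳.isStack.1 (AlgStLib.isAlgStack_overCat U).atlas hs
    exact isQuasiCompact_of_surjective (isFibGrpd_overCat U) h𝒳 hsx (isQuasiCompact_overCat U)
  · exact repByAlgSpWith_diag_toSelf_of_cover' stableBC_locP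
      isLocalOnBase_lqf cancels_lqf
      (repByAlgSp1_iff_top.1 (repByAlgSp1_of_repByAlgSpWith (repByAlgSpWith_separated_fpFst_toSelf U))) h𝒳.diag hlq hes
  · exact repByAlgSpWith_diag_toSelf_of_cover' stableBC_isProperMor isLocalOnBase_isProperMor cancels_isProperMor
      (repByAlgSpWith_separated_fpFst_toSelf U) h𝒳.diag hpr hes

/-- A stack affine over a well-nigh affine stack is well-nigh affine. -/
theorem of_isAffineMor (hw : AlgSt.IsWellNighAffine 𝒳) (f : 𝒴 ⥤ᵇ 𝒳)
    (hf : AlgSt.RepByAlgSpWith IsAffineMor f) : AlgSt.IsWellNighAffine 𝒴 := by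
  obtain ⟨U, x, hU, hx⟩ := hw
  obtain ⟨F, e, he, ha⟩ := hf U x
  obtain ⟨W, i, fst, sq, hW⟩ := ha (Z := U) hU (𝟙 _)
  have : IsIso fst := sq.isIso_fst_of_isIso
  let E : FibCat.overCat W ⥤ᵇ FibCat.fp x f := BasedFunctor.comp (overOfMap fst) e
  have hE : FibCat.IsEquivOver E :=
    isEquivOver_comp (isEquivOver_comp (isEquivOver_ofOverCat W) (isEquivOver_ofSpMap fst)) he
  exact ⟨W, BasedFunctor.comp E (FibCat.fpSnd x f), hW, repByAlgSpWith_precomp hE (repByAlgSpWith_fpSnd f hx)⟩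

end Groth.Agent.WellNighLib
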