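import Groth.Agent.WellNighLib.Basic
import Groth.Agent.AlgStLib.AffineMor
import Groth.Agent.AlgStLib.EtaleToFppf
import Groth.Agent.AlgSpDec.AffineRep
import Groth.Agent.AlgSpDec.MonoQuot

/-!
# A well-nigh affine algebraic space is an affine scheme
-/

set_option backward.isDefEq.respectTransparency false
set_option backward.isDefEq.respectTransparency.types false

universe u

open CategoryTheory CategoryTheory.Functor CategoryTheory.Limits AlgebraicGeometry Opposite AlgSp

namespace Groth.Agent.WellNighLib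

open Groth.Agent.FibBase Groth.Agent.AlgSpLib Groth.Agent.AlgStLib Groth.Agent.AlgSpDec

variable {S : Scheme.{u}} {𝒳 : AlgSt.Cat S}

theorem surjective_of_isSurjectiveMor_yon_map {T W : Over S} {w : W ⟶ T}
    (h : IsSurjectiveMor ((yon S).map w)) : Surjective w.left := ⟨fun t => by
  obtain ⟨t₁, h1⟩ := h (Points.schemeHomeo T t)
  obtain ⟨s, rfl⟩ := (Points.schemeHomeo W).surjective t₁
  refine ⟨s, (Points.schemeHomeo T).injective ?_⟩
  rw [← h1, Points.map_yon_map_eq]
  simp⟩

/-- A map from an affine scheme to an algebraic space which is finite, flat, locally of finite presentation and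
surjective exhibits the space as an affine scheme. -/
theorem exists_iso_affine {U : Over S} [IsAffine U.left] {G : Sp S} (hG : IsAlgSpace G) (p : (yon S).obj U ⟶ G)
    (hfin : IsFiniteMor p) (hfl : RepBySpWith (LocP @Flat) p.hom)
    (hlp : RepBySpWith (LocP @LocallyOfFinitePresentation) p.hom) (hs : RepBySpWith IsSurjectiveMor p.hom) :
    ∃ (W : Over S) (m : (yon S).obj W ⟶ G), IsAffine W.left ∧ IsIso m := by
  have hrep : RepWith @IsFinite p := isFiniteMor_iff_repWith.1 hfin
  have key : ∀ {T V : Over S} {g : (yon S).obj T ⟶ G} {fst : (yon S).obj V ⟶ (yon S).obj U} {i : V ⟶ T},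
      IsPullback fst ((yon S).map i) p g → Flat i.left ∧ LocallyOfFinitePresentation i.left ∧ Surjective i.left := by
    intro T V g fst i sq
    exact ⟨locP_yon_map (P := @Flat) ((repBySpWith_hom_iff _ p).1 hfl g _ _ sq).2,
      locP_yon_map (P := @LocallyOfFinitePresentation) ((repBySpWith_hom_iff _ p).1 hlp g _ _ sq).2,
      surjective_of_isSurjectiveMor_yon_map ((repBySpWith_hom_iff _ p).1 hs g _ _ sq).2⟩
  have hfppf : RepWith fppf p := ⟨hrep.rep, fun {T V} g fst snd sq => by
    obtain ⟨_, _, _⟩ := key sq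
    exact fppf_of snd.left⟩
  have := isLocallySurjective_of_repWith hfppf
  have : Epi p := Sheaf.epi_of_isLocallySurjective p
  obtain ⟨V, t, s₀, sq, hV, hsf⟩ := hfin (Z := U) ‹_› p
  obtain ⟨s', rfl⟩ := (yon S).map_surjective s₀
  obtain ⟨_, _, _⟩ := key sq
  have : IsFinite t.left := hsf
  obtain ⟨W, q, m, hW, -, hm, hqm⟩ := exists_quot_of_finite_relation (t := s') (s := t) sq
  have : Epi ((yon S).map q ≫ m) := hqm ▸ ‹Epi p›
  have : Epi m := epi_of_epi ((yon S).map q) m
  exact ⟨W, m, hW, isIso_of_mono_of_epi m⟩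

/-- A well-nigh affine stack representable by an algebraic space is an affine scheme. -/
theorem exists_affine_equiv (hw : AlgSt.IsWellNighAffine 𝒳) (hsp : AlgSt.RepByAlgSp 𝒳) :
    ∃ (U : Over S) (e : AlgSt.ofSch U ⥤ᵇ 𝒳), IsAffine U.left ∧ FibCat.IsEquivOver e := by
  obtain ⟨U, x, hU, hx⟩ := hw
  obtain ⟨F, e, he⟩ := hsp
  obtain ⟨g, hg, -⟩ := isEquivOver_inv he
  let x₀ : FibCat.overCat U ⥤ᵇ AlgSt.ofSp F.obj := BasedFunctor.comp x g
  have hx₀ := repByAlgSpWith_postcomp hg hx
  let p := mapOfOver x₀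
  have key : ∀ {P : MorphismProperty (Sp S)}, StableBC P → AlgSt.RepByAlgSpWith P x₀ → RepBySpWith P p.hom :=
    fun hP h => repBySpWith_of_repByAlgSpWith x₀ (AlgSt.toOverCat U) hP (isEquivOver_toOverCat U) h
      (isoOfSpMap (BasedFunctor.comp (AlgSt.toOverCat U) x₀))
  have hfin : IsFiniteMor p := affineWith_of_repBySpWith p
    (key stableBC_affineWith (repByAlgSpWith_mono (fun _ _ _ h => h.1.2) hx₀))
  obtain ⟨W, m, hW, _⟩ := exists_iso_affine F.property p hfin
    (key stableBC_locP (repByAlgSpWith_mono (fun _ _ _ h => h.1.1.2) hx₀))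
    (key stableBC_locP (repByAlgSpWith_mono (fun _ _ _ h => h.2) hx₀))
    (key stableBC_isSurjectiveMor (repByAlgSpWith_mono (fun _ _ _ h => h.1.1.1) hx₀))
  exact ⟨W, BasedFunctor.comp (AlgSt.ofSpMap m) e, hW, isEquivOver_comp (isEquivOver_ofSpMap m) he⟩

end Groth.Agent.WellNighLib
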